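import Mathlib
import Cfsg.Prelude.Def_Sporadic_a
import Cfsg.Agent.LeechMat.Elements
set_option linter.all false

/-!
Schreier trees for groups of lattice automorphisms given by integer matrices.
-/

set_option autoImplicit false

namespace Cfsg.Agent.LeechMat.Orbit

open Cfsg Cfsg.Agent.LeechMat.Code Cfsg.Agent.LeechMat.Core Cfsg.Agent.LeechMat.Gen
  Cfsg.Agent.LeechMat.Elements

/-! ### packing -/

/-- the code as an integer (sum of signed digits times powers of 32) -/
def val (n : ℕ) : ℤ := (n : ℤ) - (Z0 : ℤ)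

theorem mod_pow (a n : ℕ) : (a % 32 ^ n : ℕ) = ∑ k ∈ Finset.range n, dig a k * 32 ^ k := by
  induction n with
  | zero => simp [Nat.mod_one]
  | succ n ih =>
    rw [Finset.sum_range_succ, ← ih, pow_succ, Nat.mod_mul]
    congr 1
    unfold dig
    rw [Nat.shiftRight_eq_div_pow, pow_mul, mul_comm]
    norm_num

theorem val_eq {a : ℕ} (ha : a < 32 ^ 24) : val a = ∑ k ∈ Finset.range 24, sdig a k * 32 ^ k := by
  have h1 := mod_pow a 24
  rw [Nat.mod_eq_of_lt ha] at h1
  have h2 : (Z0 : ℤ) = ∑ k ∈ Finset.range 24, 16 * (32 : ℤ) ^ k := by decide +kernel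
  unfold val
  rw [h2]
  conv_lhs => rw [h1]
  push_cast
  rw [← Finset.sum_sub_distrib]
  exact Finset.sum_congr rfl fun k _ => by unfold sdig; ring

theorem digits_unique (n : ℕ) : ∀ f : ℕ → ℤ, (∀ k, -32 < f k ∧ f k < 32) →
    ∑ k ∈ Finset.range n, f k * 32 ^ k = 0 → ∀ k < n, f k = 0 := by
  induction n with
  | zero => intro f _ _ k hk; exact absurd hk (Nat.not_lt_zero k)
  | succ n ih =>
    intro f hf hs
    rw [Finset.sum_range_succ'] at hs
    have h1 : ∑ k ∈ Finset.range n, f (k + 1) * 32 ^ (k + 1)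
        = 32 * ∑ k ∈ Finset.range n, f (k + 1) * 32 ^ k := by
      rw [Finset.mul_sum]
      exact Finset.sum_congr rfl fun k _ => by ring
    rw [h1, pow_zero, mul_one] at hs
    have h0 : f 0 = 0 := by
      have := hf 0
      omega
    have h2 : ∑ k ∈ Finset.range n, f (k + 1) * 32 ^ k = 0 := by omega
    intro k hk
    cases k with
    | zero => exact h0
    | succ k => exact ih (fun k => f (k + 1)) (fun k => hf (k + 1)) h2 k (by omega)

/-- packed matrix times vector -/
def appc : List ℕ → ℕ → ℤ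
  | [], _ => 0
  | a :: A, b => sdig b 0 * val a + appc A (b >>> 5)

theorem appc_eq (A : List ℕ) (hA : ∀ a ∈ A, a < 32 ^ 24) (b : ℕ) :
    appc A b = ∑ k ∈ Finset.range 24, mvAt A b k * 32 ^ k := by
  induction A generalizing b with
  | nil =>
    show (0 : ℤ) = ∑ k ∈ Finset.range 24, (0 : ℤ) * 32 ^ k
    simp
  | cons a A ih =>
    show sdig b 0 * val a + appc A (b >>> 5)
      = ∑ k ∈ Finset.range 24, (sdig b 0 * sdig a k + mvAt A (b >>> 5) k) * 32 ^ k
    rw [val_eq (hA a List.mem_cons_self), ih (fun c hc => hA c (List.mem_cons_of_mem _ hc)),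
      Finset.mul_sum, ← Finset.sum_add_distrib]
    exact Finset.sum_congr rfl fun k _ => by ring

/-- `A` is a matrix of codes representing `d` times the automorphism `g` -/
def Rep (d : ℕ) (A : List ℕ) (g : Co0) : Prop :=
  0 < d ∧ A.length = 24 ∧ (∀ a ∈ A, a < 32 ^ 24) ∧
    ∀ x : leechLattice, mv A (x : GolayPt → ℤ) = (d : ℤ) • ((g • x : leechLattice) : GolayPt → ℤ)

/-- One step: if the packed product of the matrix and the code `n` is `d` times the code `m`, then
`g` maps the vector coded by `n` to the vector coded by `m`. -/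
theorem Rep.step {d : ℕ} {A : List ℕ} {g : Co0} (h : Rep d A g) {x : leechLattice} {n m : ℕ}
    (hx : (x : GolayPt → ℤ) = vec n) (hN : sqNorm (x : GolayPt → ℤ) ≤ 225) (hm : m < 32 ^ 24)
    (happ : appc A n = (d : ℤ) * val m) : ((g • x : leechLattice) : GolayPt → ℤ) = vec m := by
  obtain ⟨hd, hlen, hA, hg⟩ := h
  have hd0 : (d : ℤ) ≠ 0 := by exact_mod_cast hd.ne'
  have h1 : ∀ k < 24, mvAt A n k = (d : ℤ) * ((g • x : leechLattice) : GolayPt → ℤ) (pt k) := by
    intro k hk
    have := congrFun (hg x) (pt k)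
    rw [hx, mv_vec hlen, pos_pt k hk] at this
    exact this
  have h2 : ∑ k ∈ Finset.range 24,
      (((g • x : leechLattice) : GolayPt → ℤ) (pt k) - sdig m k) * 32 ^ k = 0 := by
    have h3 : (d : ℤ) * ∑ k ∈ Finset.range 24,
        (((g • x : leechLattice) : GolayPt → ℤ) (pt k) - sdig m k) * 32 ^ k = 0 := by
      have h4 : appc A n - (d : ℤ) * val m = 0 := by rw [happ]; ring
      rw [appc_eq A hA, val_eq hm, Finset.mul_sum, ← Finset.sum_sub_distrib] at h4
      rw [← h4, Finset.mul_sum]
      refine Finset.sum_congr rfl fun k hk => ?_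
      rw [h1 k (Finset.mem_range.1 hk)]
      ring
    exact (mul_eq_zero.1 h3).resolve_left hd0
  have hbound : ∀ p, -15 ≤ ((g • x : leechLattice) : GolayPt → ℤ) p ∧
      ((g • x : leechLattice) : GolayPt → ℤ) p ≤ 15 := by
    intro p
    have h5 := sq_le_sqNorm ((g • x : leechLattice) : GolayPt → ℤ) p
    rw [co0_sqNorm] at h5
    constructor <;> nlinarith
  have h6 := digits_unique 24
    (fun k => ((g • x : leechLattice) : GolayPt → ℤ) (pt k) - sdig m k)
    (fun k => by
      have h7 := hbound (pt k)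
      have h8 := sdig_bounds m k
      show -32 < ((g • x : leechLattice) : GolayPt → ℤ) (pt k) - sdig m k ∧
        ((g • x : leechLattice) : GolayPt → ℤ) (pt k) - sdig m k < 32
      constructor
      · linarith [h7.1, h8.2]
      · linarith [h7.2, h8.1]) h2
  funext p
  have h9 := h6 (pos p) (pos_lt p)
  rw [pt_pos] at h9
  rw [vec_apply]
  linarith

/-- check and produce a represented element -/
def checkRep (d : ℕ) (A ys : List ℕ) : Bool :=
  checkMat d A ys && A.all (fun a => Nat.blt a (32 ^ 24))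

theorem exists_rep {d : ℕ} {A ys : List ℕ} (h : checkRep d A ys = true) : ∃ g : Co0, Rep d A g := by
  unfold checkRep at h
  rw [Bool.and_eq_true, List.all_eq_true] at h
  obtain ⟨h1, h2⟩ := h
  obtain ⟨g, hg⟩ := exists_co0 h1
  unfold checkMat at h1
  rw [Bool.and_eq_true, Bool.and_eq_true, Bool.and_eq_true, beq_iff_eq, Nat.blt_eq] at h1
  exact ⟨g, h1.1.1.2, h1.1.1.1, fun a ha => by
    have := h2 a ha
    rwa [Nat.blt_eq] at this, hg⟩

/-- checks that `A` fixes the vectors with the given codes -/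
def fixes (d : ℕ) (A : List ℕ) (l : List ℕ) : Bool :=
  l.all fun c => (appc A c == (d : ℤ) * val c) && Nat.blt c (32 ^ 24)

theorem fixes_sound {d : ℕ} {A l : List ℕ} {g : Co0} (hr : Rep d A g) (h : fixes d A l = true)
    {c : ℕ} (hc : c ∈ l) {x : leechLattice} (hx : (x : GolayPt → ℤ) = vec c)
    (hN : sqNorm (x : GolayPt → ℤ) ≤ 225) : g • x = x := by
  unfold fixes at h
  rw [List.all_eq_true] at h
  have h1 := h c hc
  rw [Bool.and_eq_true, beq_iff_eq, Nat.blt_eq] at h1
  apply Subtype.ext
  rw [hr.step hx hN h1.2 h1.1, hx]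

/-! ### Schreier trees (left child / right sibling representation) -/

/-- Schreier tree: `node g c child sibling` says that generator `g` maps the parent to the vector
coded by `c`; `child` lists the children of `c`, `sibling` the further children of the parent. -/
inductive Tree : Type
  | leaf : Tree
  | node : ℕ → ℕ → Tree → Tree → Tree

/-- check of a tree, below the parent code `par` -/
def Tree.chk (d : ℕ) (Ms : ℕ → List ℕ) : Tree → ℕ → Bool
  | .leaf, _ => true
  | .node g c ch sib, par =>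
    (appc (Ms g) par == (d : ℤ) * val c) && Nat.blt c (32 ^ 24) && ch.chk d Ms c && sib.chk d Ms par

/-- the codes in a tree, in front of an accumulator -/
def Tree.codes : Tree → List ℕ → List ℕ
  | .leaf, acc => acc
  | .node _ c ch sib, acc => c :: ch.codes (sib.codes acc)

theorem Tree.mem_codes (t : Tree) (acc : List ℕ) (a : ℕ) :
    a ∈ t.codes acc ↔ a ∈ t.codes [] ∨ a ∈ acc := by
  induction t generalizing acc with
  | leaf => simp [Tree.codes]
  | node g c ch sib ih1 ih2 =>
    show a ∈ c :: ch.codes (sib.codes acc) ↔ a ∈ c :: ch.codes (sib.codes []) ∨ a ∈ acc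
    rw [List.mem_cons, List.mem_cons, ih1, ih2 acc, ih1 (sib.codes [])]
    tauto

theorem Tree.sound {d : ℕ} {Ms : ℕ → List ℕ} (S : Subgroup Co0)
    (hM : ∀ i, ∃ g ∈ S, Rep d (Ms i) g) (r : leechLattice)
    (hN : sqNorm (r : GolayPt → ℤ) ≤ 225) (t : Tree) (par : ℕ)
    (hpar : ∃ g ∈ S, ((g • r : leechLattice) : GolayPt → ℤ) = vec par)
    (ht : t.chk d Ms par = true) : ∀ c ∈ t.codes [],
      ∃ g ∈ S, ((g • r : leechLattice) : GolayPt → ℤ) = vec c := by
  induction t generalizing par with
  | leaf => intro c hc; exact absurd hc (List.not_mem_nil)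
  | node i c ch sib ih1 ih2 =>
    have ht' : ((appc (Ms i) par == (d : ℤ) * val c) && Nat.blt c (32 ^ 24) && ch.chk d Ms c &&
      sib.chk d Ms par) = true := ht
    rw [Bool.and_eq_true, Bool.and_eq_true, Bool.and_eq_true, beq_iff_eq, Nat.blt_eq] at ht'
    obtain ⟨⟨⟨h1, h2⟩, h3⟩, h4⟩ := ht'
    obtain ⟨g, hgS, hg⟩ := hpar
    obtain ⟨e, heS, he⟩ := hM i
    have hc : ((e * g) • r : leechLattice) = (vec c : GolayPt → ℤ) := by
      rw [mul_smul]
      exact he.step hg (by rw [co0_sqNorm]; exact hN) h2 h1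
    intro a ha
    have ha' : a ∈ c :: ch.codes (sib.codes []) := ha
    rcases List.mem_cons.1 ha' with rfl | ha'
    · exact ⟨e * g, S.mul_mem heS hgS, hc⟩
    · rw [Tree.mem_codes] at ha'
      rcases ha' with ha' | ha'
      · exact ih1 c ⟨e * g, S.mul_mem heS hgS, hc⟩ h3 a ha'
      · exact ih2 par ⟨g, hgS, hg⟩ h4 a ha'

theorem vec_inj {a b : ℕ} (ha : a < 32 ^ 24) (hb : b < 32 ^ 24) (h : vec a = vec b) : a = b := by
  have h1 : val a = val b := by
    rw [val_eq ha, val_eq hb]
    refine Finset.sum_congr rfl fun k hk => ?_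
    have := congrFun h (pt k)
    rw [vec_apply, vec_apply, pos_pt k (Finset.mem_range.1 hk)] at this
    rw [this]
  unfold val at h1
  omega

theorem Tree.codes_lt {d : ℕ} {Ms : ℕ → List ℕ} (t : Tree) (par : ℕ)
    (ht : t.chk d Ms par = true) : ∀ c ∈ t.codes [], c < 32 ^ 24 := by
  induction t generalizing par with
  | leaf => intro c hc; exact absurd hc (List.not_mem_nil)
  | node i c ch sib ih1 ih2 =>
    have ht' : ((appc (Ms i) par == (d : ℤ) * val c) && Nat.blt c (32 ^ 24) && ch.chk d Ms c &&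
      sib.chk d Ms par) = true := ht
    rw [Bool.and_eq_true, Bool.and_eq_true, Bool.and_eq_true, beq_iff_eq, Nat.blt_eq] at ht'
    obtain ⟨⟨⟨h1, h2⟩, h3⟩, h4⟩ := ht'
    intro a ha
    have ha' : a ∈ c :: ch.codes (sib.codes []) := ha
    rcases List.mem_cons.1 ha' with rfl | ha'
    · exact h2
    · rw [Tree.mem_codes] at ha'
      rcases ha' with ha' | ha'
      · exact ih1 c h3 a ha'
      · exact ih2 par h4 a ha'

/-- cardinality of the set of lattice vectors with codes in a list -/
theorem ncard_codes (l : List ℕ) (hl : ∀ c ∈ l, c < 32 ^ 24) (hnd : l.Nodup)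
    (hmem : ∀ c ∈ l, vec c ∈ leechLattice) :
    {x : leechLattice | ∃ c ∈ l, (x : GolayPt → ℤ) = vec c}.ncard = l.length := by
  have h1 : ((fun x : leechLattice => (x : GolayPt → ℤ)) ''
      {x : leechLattice | ∃ c ∈ l, (x : GolayPt → ℤ) = vec c}) = vec '' (l.toFinset : Set ℕ) := by
    ext y
    constructor
    · rintro ⟨x, ⟨c, hc, hx⟩, rfl⟩
      exact ⟨c, by simpa using hc, hx.symm⟩
    · rintro ⟨c, hc, rfl⟩
      have hc' : c ∈ l := by simpa using hc
      exact ⟨⟨vec c, hmem c hc'⟩, ⟨c, hc', rfl⟩, rfl⟩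
  have hinj : Set.InjOn vec (l.toFinset : Set ℕ) := by
    intro a ha b hb hab
    have ha' : a ∈ l := by simpa using ha
    have hb' : b ∈ l := by simpa using hb
    exact vec_inj (hl a ha') (hl b hb') hab
  rw [← Set.ncard_image_of_injective _ (f := fun x : leechLattice => (x : GolayPt → ℤ))
    Subtype.val_injective, h1, hinj.ncard_image, Set.ncard_coe_finset,
    List.toFinset_card_of_nodup hnd]

end Cfsg.Agent.LeechMat.Orbit
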